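import Cfsg.Agent.Lib.Helper3.Tit.L1D
import Cfsg.Agent.Lib.Helper3.Tit.Net

set_option autoImplicit false
set_option maxRecDepth 100000

namespace Cfsg.Agent.Lib.Helper3.Tit.L1

open Cfsg.Agent.Lib.Helper11 Cfsg.Agent.Lib.Helper3

set_option maxHeartbeats 0
set_option Elab.async false

noncomputable def fc (i : ℕ) : ℕ := (Bool.rec (fc0_0 i) (Bool.rec (fc0_1 i) (fc0_2 i) (Nat.ble 32 i)) (Nat.ble 16 i))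
noncomputable def sc (i : ℕ) : ℕ := (Bool.rec (sc0_0 i) (Bool.rec (sc0_1 i) (sc0_2 i) (Nat.ble 32 i)) (Nat.ble 16 i))
noncomputable def nc (i : ℕ) : ℕ := (nc0_0 i)
noncomputable def cc (i : ℕ) : ℕ := (Bool.rec (Bool.rec (cc0_0 i) (cc0_1 i) (Nat.ble 16 i)) (Bool.rec (cc0_2 i) (cc0_3 i) (Nat.ble 48 i)) (Nat.ble 32 i))

def isH (l : ℕ) : Bool := decide (l ∈ [4, 5])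
def gens : List ℕ := [1, 2]
def hl : List ℕ := [4, 5]
def dl : List (List ℕ × ℕ) := [([2], 3), ([2, 1, 3, 1, 2, 1, 3], 4), ([1, 2, 1, 2, 1, 3, 1, 2, 1, 2, 1, 3, 1, 2, 1, 2, 1, 2, 1, 3, 1, 3, 1, 3, 1, 3, 1, 3, 1, 2, 1], 6), ([6], 5), ([5, 4, 5, 4, 6, 4, 6], 7), ([4, 6, 6, 6, 4, 5, 5, 5, 4], 8)]
def BR_0 : List (List ℕ) := [[], [2, 1, 3, 1, 2, 1, 3, 4], [1, 2, 1, 2, 1, 3, 1, 2, 1, 2, 1, 3, 1, 2, 1, 2, 1, 2, 1, 3, 1, 3, 1, 3, 1, 3, 1, 3, 1, 2, 1, 6], [5, 4, 5, 4, 6, 4, 6, 7], [4, 6, 6, 6, 4, 5, 5, 5, 4, 8], [2, 2, 2], [3, 3, 3], [1, 2, 1, 2, 1, 2, 1, 2, 1, 2, 1, 2, 1, 2, 1, 2, 1, 2, 1, 2, 1, 2, 1, 2, 1, 2], [1, 3, 1, 3, 1, 3, 1, 3, 1, 3, 1, 3, 1, 3, 1, 3, 1, 3, 1,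 3, 1, 3, 1, 3, 1, 3], [1, 2, 2, 1, 2, 2, 1, 2, 2, 1, 2, 2, 1, 2, 2, 1, 2, 2, 1, 2, 2, 1, 2, 2, 1, 2, 2, 1, 2, 2, 1, 2, 2, 1, 2, 2, 1, 2, 2], [1, 3, 3, 1, 3, 3, 1, 3, 3, 1, 3, 3, 1, 3, 3, 1, 3, 3, 1, 3, 3, 1, 3, 3, 1, 3, 3, 1, 3, 3, 1, 3, 3, 1, 3, 3, 1, 3, 3], [1, 2, 1, 3, 1, 2, 1, 3, 1, 2, 1, 3, 1, 2, 1, 3, 1, 2, 1, 3], [1, 2, 2, 2, 1, 2, 2, 2], [1, 3, 3, 3, 1, 3, 3, 3], [3, 1, 2, 1, 3, 1, 2, 7, 8, 7], [2, 1, 2, 1, 3, 1, 3, 1, 2, 1, 2, 1, 3, 1, 3, 8, 7, 6, 4, 5, 4, 5, 5, 4, 5, 4, 6], [1, 2, 1, 2, 1, 3, 1, 3, 1, 2, 1, 2, 1, 3, 1, 3, 1, 8, 7, 6, 4, 5, 4, 5, 5, 4, 5, 4, 6], [3, 1, 3, 1, 2, 1, 3, 1, 3, 1, 2, 1, 2, 1, 3, 1, 2, 1, 2, 7, 8, 7, 8, 4, 5, 4, 6, 4, 6, 6],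 [1, 3, 1, 3, 1, 2, 1, 3, 1, 3, 1, 2, 1, 2, 1, 3, 1, 2, 1, 2, 1, 7, 8, 7, 8, 4, 5, 4, 5, 5, 4, 6, 6, 6, 4, 5, 5], [3, 1, 3, 1, 3, 1, 2, 1, 2, 1, 3, 1, 3, 1, 2, 1, 2, 1, 3, 1, 3, 1, 2, 1, 2, 1, 2, 4], [2, 1, 2, 1, 2, 1, 2, 1, 3, 1, 3, 1, 3, 1, 2, 1, 3, 1, 3, 1, 2, 1, 3, 1, 3, 1, 3, 1, 2, 1, 7, 8, 4, 5, 4, 5, 5, 5, 4, 6, 4, 5], [3, 1, 3, 1, 2, 1, 2, 1, 3, 1, 3, 1, 3, 1, 2, 1, 3, 1, 2, 1, 2, 1, 2, 1, 3, 1, 3, 1, 2, 1, 2, 7, 8, 7, 8, 7, 4, 5, 5, 5, 4, 6, 6, 6], [3, 1, 3, 1, 3, 1, 3, 1, 2, 1, 2, 1, 2, 1, 3, 1, 3, 1, 2, 1, 2, 1, 2, 1, 3, 1, 2, 1, 2, 1, 3, 1, 7, 8, 7, 4, 6, 4, 5, 4, 6, 4, 5, 5]]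
def BR : List (List ℕ) := BR_0
set_option maxRecDepth 10000000 in
noncomputable def rt : RT := (.node 120 (.node 60 (.node 30 (.node 15 (.node 7 (.node 3 (.node 1 (.leaf 0 0 []) (.node 2 (.leaf 1 7 [4, 2, 1, 3, 1, 2, 1, 3]) (.leaf 2 15 [2, 1, 2, 1, 3, 1, 3, 1, 3, 1, 3, 1, 3, 1, 2, 1, 6, 1, 2, 1, 2, 1, 3, 1, 2, 1, 2, 1, 3, 1, 2, 1]))) (.node 5 (.node 4 (.leaf 2 31 [6, 1, 2, 1, 2, 1, 3, 1, 2, 1, 2, 1, 3, 1, 2, 1, 2, 1, 2, 1, 3, 1, 3, 1, 3, 1, 3, 1, 3, 1, 2, 1]) (.leaf 7 13 [2, 1, 2, 1, 2, 1, 2, 1, 2, 1, 2, 1, 2, 1, 2, 1, 2, 1, 2, 1, 2, 1, 2, 1, 2, 1])) (.node 6 (.leaf 8 13 [3, 1, 3, 1, 3, 1, 3, 1, 3, 1, 3, 1, 3, 1, 3, 1, 3, 1, 3, 1, 3, 1, 3, 1, 3, 1]) (.leaf 1 3 [1,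 2, 1, 3, 4, 2, 1, 3])))) (.node 11 (.node 9 (.node 8 (.leaf 5 1 [2, 2, 2]) (.leaf 11 14 [1, 3, 1, 2, 1, 3, 1, 2, 1, 3, 1, 2, 1, 3, 1, 2, 1, 3, 1, 2])) (.node 10 (.leaf 12 6 [2, 2, 1, 2, 2, 2, 1, 2]) (.leaf 11 9 [2, 1, 3, 1, 2, 1, 3, 1, 2, 1, 3, 1, 2, 1, 3, 1, 2, 1, 3, 1]))) (.node 13 (.node 12 (.leaf 8 12 [1, 3, 1, 3, 1, 3, 1, 3, 1, 3, 1, 3, 1, 3, 1, 3, 1, 3, 1, 3, 1, 3, 1, 3, 1, 3]) (.leaf 11 8 [1, 2, 1, 3, 1, 2, 1, 3, 1, 2, 1, 3, 1, 2, 1, 3, 1, 2, 1, 3])) (.node 14 (.leaf 11 10 [1, 3, 1, 2, 1, 3, 1, 2, 1, 3, 1, 2, 1, 3, 1, 2, 1, 3, 1, 2]) (.leaf 10 7 [3, 3, 1, 3, 3, 1, 3, 3, 1, 3, 3, 1, 3, 3, 1, 3, 3, 1, 3, 3, 1, 3, 3, 1, 3, 3, 1, 3, 3, 1, 3, 3, 1, 3, 3, 1, 3,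 3, 1]))))) (.node 22 (.node 18 (.node 16 (.leaf 10 35 [3, 1, 3, 3, 1, 3, 3, 1, 3, 3, 1, 3, 3, 1, 3, 3, 1, 3, 3, 1, 3, 3, 1, 3, 3, 1, 3, 3, 1, 3, 3, 1, 3, 3, 1, 3, 3, 1, 3]) (.node 17 (.leaf 13 6 [3, 3, 1, 3, 3, 3, 1, 3]) (.leaf 11 11 [3, 1, 2, 1, 3, 1, 2, 1, 3, 1, 2, 1, 3, 1, 2, 1, 3, 1, 2, 1]))) (.node 20 (.node 19 (.leaf 8 8 [1, 3, 1, 3, 1, 3, 1, 3, 1, 3, 1, 3, 1, 3, 1, 3, 1, 3, 1, 3, 1, 3, 1, 3, 1, 3]) (.leaf 12 5 [2, 2, 2, 1, 2, 2, 2, 1])) (.node 21 (.leaf 3 7 [7, 5, 4, 5, 4, 6, 4, 6]) (.leaf 4 9 [8, 4, 6, 6, 6, 4, 5, 5, 5, 4])))) (.node 26 (.node 24 (.node 23 (.leaf 14 3 [1, 3, 1, 2, 7, 8, 7, 3, 1, 2]) (.leaf 11 12 [1, 2, 1, 3, 1, 2, 1, 3, 1, 2, 1, 3, 1, 2,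 1, 3, 1, 2, 1, 3])) (.node 25 (.leaf 7 15 [2, 1, 2, 1, 2, 1, 2, 1, 2, 1, 2, 1, 2, 1, 2, 1, 2, 1, 2, 1, 2, 1, 2, 1, 2, 1]) (.leaf 9 17 [2, 1, 2, 2, 1, 2, 2, 1, 2, 2, 1, 2, 2, 1, 2, 2, 1, 2, 2, 1, 2, 2, 1, 2, 2, 1, 2, 2, 1, 2, 2, 1, 2, 2, 1, 2, 2, 1, 2]))) (.node 28 (.node 27 (.leaf 15 7 [1, 2, 1, 2, 1, 3, 1, 3, 8, 7, 6, 4, 5, 4, 5, 5, 4, 5, 4, 6, 2, 1, 2, 1, 3, 1, 3]) (.leaf 7 21 [2, 1, 2, 1, 2, 1, 2, 1, 2, 1, 2, 1, 2, 1, 2, 1, 2, 1, 2, 1, 2, 1, 2, 1, 2, 1])) (.node 29 (.leaf 9 8 [2, 1, 2, 2, 1, 2, 2, 1, 2, 2, 1, 2, 2, 1, 2, 2, 1, 2, 2, 1, 2, 2, 1, 2, 2, 1, 2, 2, 1, 2, 2, 1, 2, 2, 1, 2, 2, 1, 2]) (.leaf 9 24 [1, 2, 2, 1, 2, 2, 1, 2, 2, 1, 2, 2, 1, 2, 2, 1, 2, 2,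 1, 2, 2, 1, 2, 2, 1, 2, 2, 1, 2, 2, 1, 2, 2, 1, 2, 2, 1, 2, 2])))))) (.node 45 (.node 37 (.node 33 (.node 31 (.leaf 6 1 [3, 3, 3]) (.node 32 (.leaf 16 8 [1, 2, 1, 2, 1, 3, 1, 3, 1, 8, 7, 6, 4, 5, 4, 5, 5, 4, 5, 4, 6, 1, 2, 1, 2, 1, 3, 1, 3]) (.leaf 7 18 [1, 2, 1, 2, 1, 2, 1, 2, 1, 2, 1, 2, 1, 2, 1, 2, 1, 2, 1, 2, 1, 2, 1, 2, 1, 2]))) (.node 35 (.node 34 (.leaf 7 12 [1, 2, 1, 2, 1, 2, 1, 2, 1, 2, 1, 2, 1, 2, 1, 2, 1, 2, 1, 2, 1, 2, 1, 2, 1, 2]) (.leaf 17 9 [1, 2, 1, 2, 1, 3, 1, 2, 1, 2, 7, 8, 7, 8, 4, 5, 4, 6, 4, 6, 6, 3, 1, 3, 1, 2, 1, 3, 1, 3])) (.node 36 (.leaf 18 10 [1, 2, 1, 2, 1, 3, 1, 2, 1, 2, 1, 7, 8, 7, 8, 4, 5, 4, 5, 5, 4, 6, 6, 6, 4, 5, 5, 1, 3, 1, 3,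 1, 2, 1, 3, 1, 3]) (.leaf 11 16 [1, 2, 1, 3, 1, 2, 1, 3, 1, 2, 1, 3, 1, 2, 1, 3, 1, 2, 1, 3])))) (.node 41 (.node 39 (.node 38 (.leaf 7 11 [2, 1, 2, 1, 2, 1, 2, 1, 2, 1, 2, 1, 2, 1, 2, 1, 2, 1, 2, 1, 2, 1, 2, 1, 2, 1]) (.leaf 9 23 [2, 1, 2, 2, 1, 2, 2, 1, 2, 2, 1, 2, 2, 1, 2, 2, 1, 2, 2, 1, 2, 2, 1, 2, 2, 1, 2, 2, 1, 2, 2, 1, 2, 2, 1, 2, 2, 1, 2])) (.node 40 (.leaf 19 13 [1, 2, 1, 2, 1, 3, 1, 3, 1, 2, 1, 2, 1, 2, 4, 3, 1, 3, 1, 3, 1, 2, 1, 2, 1, 3, 1, 3]) (.leaf 19 17 [1, 3, 1, 3, 1, 2, 1, 2, 1, 2, 4, 3, 1, 3, 1, 3, 1, 2, 1, 2, 1, 3, 1, 3, 1, 2, 1, 2]))) (.node 43 (.node 42 (.leaf 19 18 [3, 1, 3, 1, 2, 1, 2, 1, 2, 4, 3, 1, 3, 1, 3, 1, 2, 1, 2, 1, 3, 1, 3, 1, 2,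 1, 2, 1]) (.leaf 19 20 [3, 1, 2, 1, 2, 1, 2, 4, 3, 1, 3, 1, 3, 1, 2, 1, 2, 1, 3, 1, 3, 1, 2, 1, 2, 1, 3, 1])) (.node 44 (.leaf 19 26 [2, 4, 3, 1, 3, 1, 3, 1, 2, 1, 2, 1, 3, 1, 3, 1, 2, 1, 2, 1, 3, 1, 3, 1, 2, 1, 2, 1]) (.leaf 19 27 [4, 3, 1, 3, 1, 3, 1, 2, 1, 2, 1, 3, 1, 3, 1, 2, 1, 2, 1, 3, 1, 3, 1, 2, 1, 2, 1, 2]))))) (.node 52 (.node 48 (.node 46 (.leaf 19 14 [2, 1, 2, 1, 3, 1, 3, 1, 2, 1, 2, 1, 2, 4, 3, 1, 3, 1, 3, 1, 2, 1, 2, 1, 3, 1, 3, 1]) (.node 47 (.leaf 19 19 [1, 3, 1, 2, 1, 2, 1, 2, 4, 3, 1, 3, 1, 3, 1, 2, 1, 2, 1, 3, 1, 3, 1, 2, 1, 2, 1, 3]) (.leaf 19 16 [2, 1, 3, 1, 3, 1, 2, 1, 2, 1, 2, 4, 3, 1, 3, 1, 3, 1, 2, 1, 2, 1, 3, 1, 3, 1, 2, 1]))) (.node 50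 (.node 49 (.leaf 19 10 [3, 1, 3, 1, 2, 1, 2, 1, 3, 1, 3, 1, 2, 1, 2, 1, 2, 4, 3, 1, 3, 1, 3, 1, 2, 1, 2, 1]) (.leaf 19 21 [1, 2, 1, 2, 1, 2, 4, 3, 1, 3, 1, 3, 1, 2, 1, 2, 1, 3, 1, 3, 1, 2, 1, 2, 1, 3, 1, 3])) (.node 51 (.leaf 19 24 [2, 1, 2, 4, 3, 1, 3, 1, 3, 1, 2, 1, 2, 1, 3, 1, 3, 1, 2, 1, 2, 1, 3, 1, 3, 1, 2, 1]) (.leaf 9 29 [2, 1, 2, 2, 1, 2, 2, 1, 2, 2, 1, 2, 2, 1, 2, 2, 1, 2, 2, 1, 2, 2, 1, 2, 2, 1, 2, 2, 1, 2, 2, 1, 2, 2, 1, 2, 2, 1, 2])))) (.node 56 (.node 54 (.node 53 (.leaf 5 2 [2, 2, 2]) (.leaf 11 6 [1, 3, 1, 2, 1, 3, 1, 2, 1, 3, 1, 2, 1, 3, 1, 2, 1, 3, 1, 2])) (.node 55 (.leaf 7 8 [1, 2, 1, 2, 1, 2, 1, 2, 1, 2, 1, 2, 1, 2, 1, 2, 1, 2, 1, 2, 1, 2, 1,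 2, 1, 2]) (.leaf 9 19 [2, 2, 1, 2, 2, 1, 2, 2, 1, 2, 2, 1, 2, 2, 1, 2, 2, 1, 2, 2, 1, 2, 2, 1, 2, 2, 1, 2, 2, 1, 2, 2, 1, 2, 2, 1, 2, 2, 1]))) (.node 58 (.node 57 (.leaf 7 14 [1, 2, 1, 2, 1, 2, 1, 2, 1, 2, 1, 2, 1, 2, 1, 2, 1, 2, 1, 2, 1, 2, 1, 2, 1, 2]) (.leaf 11 13 [2, 1, 3, 1, 2, 1, 3, 1, 2, 1, 3, 1, 2, 1, 3, 1, 2, 1, 3, 1])) (.node 59 (.leaf 10 28 [3, 3, 1, 3, 3, 1, 3, 3, 1, 3, 3, 1, 3, 3, 1, 3, 3, 1, 3, 3, 1, 3, 3, 1, 3, 3, 1, 3, 3, 1, 3, 3, 1, 3, 3, 1, 3, 3, 1]) (.leaf 11 15 [3, 1, 2, 1, 3, 1, 2, 1, 3, 1, 2, 1, 3, 1, 2, 1, 3, 1, 2, 1]))))))) (.node 90 (.node 75 (.node 67 (.node 63 (.node 61 (.leaf 11 7 [3, 1, 2, 1, 3, 1, 2, 1, 3, 1, 2, 1, 3, 1, 2, 1, 3, 1,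 2, 1]) (.node 62 (.leaf 11 3 [3, 1, 2, 1, 3, 1, 2, 1, 3, 1, 2, 1, 3, 1, 2, 1, 3, 1, 2, 1]) (.leaf 19 12 [3, 1, 2, 1, 2, 1, 3, 1, 3, 1, 2, 1, 2, 1, 2, 4, 3, 1, 3, 1, 3, 1, 2, 1, 2, 1, 3, 1]))) (.node 65 (.node 64 (.leaf 20 14 [2, 1, 3, 1, 3, 1, 2, 1, 3, 1, 3, 1, 3, 1, 2, 1, 7, 8, 4, 5, 4, 5, 5, 5, 4, 6, 4, 5, 2, 1, 2, 1, 2, 1, 2, 1, 3, 1, 3, 1, 3, 1]) (.leaf 7 22 [1, 2, 1, 2, 1, 2, 1, 2, 1, 2, 1, 2, 1, 2, 1, 2, 1, 2, 1, 2, 1, 2, 1, 2, 1, 2])) (.node 66 (.leaf 19 25 [1, 2, 4, 3, 1, 3, 1, 3, 1, 2, 1, 2, 1, 3, 1, 3, 1, 2, 1, 2, 1, 3, 1, 3, 1, 2, 1, 2]) (.leaf 19 4 [3, 1, 2, 1, 2, 1, 3, 1, 3, 1, 2, 1, 2, 1, 3, 1, 3, 1, 2, 1, 2, 1, 2, 4, 3, 1, 3, 1])))) (.node 71 (.node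 69 (.node 68 (.leaf 8 19 [3, 1, 3, 1, 3, 1, 3, 1, 3, 1, 3, 1, 3, 1, 3, 1, 3, 1, 3, 1, 3, 1, 3, 1, 3, 1]) (.leaf 6 2 [3, 3, 3])) (.node 70 (.leaf 19 7 [1, 2, 1, 3, 1, 3, 1, 2, 1, 2, 1, 3, 1, 3, 1, 2, 1, 2, 1, 2, 4, 3, 1, 3, 1, 3, 1, 2]) (.leaf 19 3 [1, 3, 1, 2, 1, 2, 1, 3, 1, 3, 1, 2, 1, 2, 1, 3, 1, 3, 1, 2, 1, 2, 1, 2, 4, 3, 1, 3]))) (.node 73 (.node 72 (.leaf 10 31 [3, 3, 1, 3, 3, 1, 3, 3, 1, 3, 3, 1, 3, 3, 1, 3, 3, 1, 3, 3, 1, 3, 3, 1, 3, 3, 1, 3, 3, 1, 3, 3, 1, 3, 3, 1, 3, 3, 1]) (.leaf 10 37 [3, 3, 1, 3, 3, 1, 3, 3, 1, 3, 3, 1, 3, 3, 1, 3, 3, 1, 3, 3, 1, 3, 3, 1, 3, 3, 1, 3, 3, 1, 3, 3, 1, 3, 3, 1, 3, 3, 1])) (.node 74 (.leaf 11 1 [2, 1, 3, 1, 2, 1, 3, 1, 2,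 1, 3, 1, 2, 1, 3, 1, 2, 1, 3, 1]) (.leaf 7 5 [2, 1, 2, 1, 2, 1, 2, 1, 2, 1, 2, 1, 2, 1, 2, 1, 2, 1, 2, 1, 2, 1, 2, 1, 2, 1]))))) (.node 82 (.node 78 (.node 76 (.leaf 19 8 [2, 1, 3, 1, 3, 1, 2, 1, 2, 1, 3, 1, 3, 1, 2, 1, 2, 1, 2, 4, 3, 1, 3, 1, 3, 1, 2, 1]) (.node 77 (.leaf 8 17 [3, 1, 3, 1, 3, 1, 3, 1, 3, 1, 3, 1, 3, 1, 3, 1, 3, 1, 3, 1, 3, 1, 3, 1, 3, 1]) (.leaf 19 22 [2, 1, 2, 1, 2, 4, 3, 1, 3, 1, 3, 1, 2, 1, 2, 1, 3, 1, 3, 1, 2, 1, 2, 1, 3, 1, 3, 1]))) (.node 80 (.node 79 (.leaf 10 36 [1, 3, 3, 1, 3, 3, 1, 3, 3, 1, 3, 3, 1, 3, 3, 1, 3, 3, 1, 3, 3, 1, 3, 3, 1, 3, 3, 1, 3, 3, 1, 3, 3, 1, 3, 3, 1, 3, 3]) (.leaf 8 23 [3, 1, 3, 1, 3, 1, 3, 1, 3, 1, 3, 1, 3, 1, 3,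 1, 3, 1, 3, 1, 3, 1, 3, 1, 3, 1])) (.node 81 (.leaf 13 5 [3, 3, 3, 1, 3, 3, 3, 1]) (.leaf 9 35 [2, 1, 2, 2, 1, 2, 2, 1, 2, 2, 1, 2, 2, 1, 2, 2, 1, 2, 2, 1, 2, 2, 1, 2, 2, 1, 2, 2, 1, 2, 2, 1, 2, 2, 1, 2, 2, 1, 2])))) (.node 86 (.node 84 (.node 83 (.leaf 11 17 [2, 1, 3, 1, 2, 1, 3, 1, 2, 1, 3, 1, 2, 1, 3, 1, 2, 1, 3, 1]) (.leaf 19 15 [1, 2, 1, 3, 1, 3, 1, 2, 1, 2, 1, 2, 4, 3, 1, 3, 1, 3, 1, 2, 1, 2, 1, 3, 1, 3, 1, 2])) (.node 85 (.leaf 8 7 [3, 1, 3, 1, 3, 1, 3, 1, 3, 1, 3, 1, 3, 1, 3, 1, 3, 1, 3, 1, 3, 1, 3, 1, 3, 1]) (.leaf 19 2 [3, 1, 3, 1, 2, 1, 2, 1, 3, 1, 3, 1, 2, 1, 2, 1, 3, 1, 3, 1, 2, 1, 2, 1, 2, 4, 3, 1]))) (.node 88 (.node 87 (.leaf 7 6 [1, 2, 1, 2, 1,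 2, 1, 2, 1, 2, 1, 2, 1, 2, 1, 2, 1, 2, 1, 2, 1, 2, 1, 2, 1, 2]) (.leaf 8 18 [1, 3, 1, 3, 1, 3, 1, 3, 1, 3, 1, 3, 1, 3, 1, 3, 1, 3, 1, 3, 1, 3, 1, 3, 1, 3])) (.node 89 (.leaf 19 1 [1, 3, 1, 3, 1, 2, 1, 2, 1, 3, 1, 3, 1, 2, 1, 2, 1, 3, 1, 3, 1, 2, 1, 2, 1, 2, 4, 3]) (.leaf 1 5 [1, 3, 4, 2, 1, 3, 1, 2])))))) (.node 105 (.node 97 (.node 93 (.node 91 (.leaf 9 10 [2, 2, 1, 2, 2, 1, 2, 2, 1, 2, 2, 1, 2, 2, 1, 2, 2, 1, 2, 2, 1, 2, 2, 1, 2, 2, 1, 2, 2, 1, 2, 2, 1, 2, 2, 1, 2, 2, 1]) (.node 92 (.leaf 21 15 [1, 3, 1, 2, 1, 2, 1, 2, 1, 3, 1, 3, 1, 2, 1, 2, 7, 8, 7, 8, 7, 4, 5, 5, 5, 4, 6, 6, 6, 3, 1, 3, 1, 2, 1, 2, 1, 3, 1, 3, 1, 3, 1, 2]) (.leaf 7 9 [2, 1, 2, 1, 2, 1, 2, 1,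 2, 1, 2, 1, 2, 1, 2, 1, 2, 1, 2, 1, 2, 1, 2, 1, 2, 1]))) (.node 95 (.node 94 (.leaf 1 1 [1, 3, 1, 2, 1, 3, 4, 2]) (.leaf 9 14 [2, 1, 2, 2, 1, 2, 2, 1, 2, 2, 1, 2, 2, 1, 2, 2, 1, 2, 2, 1, 2, 2, 1, 2, 2, 1, 2, 2, 1, 2, 2, 1, 2, 2, 1, 2, 2, 1, 2])) (.node 96 (.leaf 7 2 [1, 2, 1, 2, 1, 2, 1, 2, 1, 2, 1, 2, 1, 2, 1, 2, 1, 2, 1, 2, 1, 2, 1, 2, 1, 2]) (.leaf 10 3 [1, 3, 3, 1, 3, 3, 1, 3, 3, 1, 3, 3, 1, 3, 3, 1, 3, 3, 1, 3, 3, 1, 3, 3, 1, 3, 3, 1, 3, 3, 1, 3, 3, 1, 3, 3, 1, 3, 3])))) (.node 101 (.node 99 (.node 98 (.leaf 19 9 [1, 3, 1, 3, 1, 2, 1, 2, 1, 3, 1, 3, 1, 2, 1, 2, 1, 2, 4, 3, 1, 3, 1, 3, 1, 2, 1, 2]) (.leaf 14 8 [8, 7, 3, 1, 2, 1, 3, 1, 2, 7])) (.node 100 (.leaf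 22 15 [1, 3, 1, 2, 1, 2, 1, 2, 1, 3, 1, 2, 1, 2, 1, 3, 1, 7, 8, 7, 4, 6, 4, 5, 4, 6, 4, 5, 5, 3, 1, 3, 1, 3, 1, 3, 1, 2, 1, 2, 1, 2, 1, 3]) (.leaf 9 20 [2, 1, 2, 2, 1, 2, 2, 1, 2, 2, 1, 2, 2, 1, 2, 2, 1, 2, 2, 1, 2, 2, 1, 2, 2, 1, 2, 2, 1, 2, 2, 1, 2, 2, 1, 2, 2, 1, 2]))) (.node 103 (.node 102 (.leaf 7 16 [1, 2, 1, 2, 1, 2, 1, 2, 1, 2, 1, 2, 1, 2, 1, 2, 1, 2, 1, 2, 1, 2, 1, 2, 1, 2]) (.leaf 10 0 [1, 3, 3, 1, 3, 3, 1, 3, 3, 1, 3, 3, 1, 3, 3, 1, 3, 3, 1, 3, 3, 1, 3, 3, 1, 3, 3, 1, 3, 3, 1, 3, 3, 1, 3, 3, 1, 3, 3])) (.node 104 (.leaf 12 2 [2, 2, 1, 2, 2, 2, 1, 2]) (.leaf 7 3 [2, 1, 2, 1, 2, 1, 2, 1, 2, 1, 2, 1, 2, 1, 2, 1, 2, 1, 2, 1, 2, 1, 2, 1, 2, 1]))))) (.node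 112 (.node 108 (.node 106 (.leaf 22 36 [6, 4, 5, 4, 6, 4, 5, 5, 3, 1, 3, 1, 3, 1, 3, 1, 2, 1, 2, 1, 2, 1, 3, 1, 3, 1, 2, 1, 2, 1, 2, 1, 3, 1, 2, 1, 2, 1, 3, 1, 7, 8, 7, 4]) (.node 107 (.leaf 1 0 [2, 1, 3, 1, 2, 1, 3, 4]) (.leaf 1 2 [3, 1, 2, 1, 3, 4, 2, 1]))) (.node 110 (.node 109 (.leaf 12 7 [2, 1, 2, 2, 2, 1, 2, 2]) (.leaf 10 34 [3, 3, 1, 3, 3, 1, 3, 3, 1, 3, 3, 1, 3, 3, 1, 3, 3, 1, 3, 3, 1, 3, 3, 1, 3, 3, 1, 3, 3, 1, 3, 3, 1, 3, 3, 1, 3, 3, 1])) (.node 111 (.leaf 8 4 [1, 3, 1, 3, 1, 3, 1, 3, 1, 3, 1, 3, 1, 3, 1, 3, 1, 3, 1, 3, 1, 3, 1, 3, 1, 3]) (.leaf 10 5 [3, 1, 3, 3, 1, 3, 3, 1, 3, 3, 1, 3, 3, 1, 3, 3, 1, 3, 3, 1, 3, 3, 1, 3, 3, 1, 3, 3, 1, 3, 3, 1, 3, 3,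 1, 3, 3, 1, 3])))) (.node 116 (.node 114 (.node 113 (.leaf 13 7 [3, 1, 3, 3, 3, 1, 3, 3]) (.leaf 9 6 [1, 2, 2, 1, 2, 2, 1, 2, 2, 1, 2, 2, 1, 2, 2, 1, 2, 2, 1, 2, 2, 1, 2, 2, 1, 2, 2, 1, 2, 2, 1, 2, 2, 1, 2, 2, 1, 2, 2])) (.node 115 (.leaf 7 24 [1, 2, 1, 2, 1, 2, 1, 2, 1, 2, 1, 2, 1, 2, 1, 2, 1, 2, 1, 2, 1, 2, 1, 2, 1, 2]) (.leaf 10 4 [3, 3, 1, 3, 3, 1, 3, 3, 1, 3, 3, 1, 3, 3, 1, 3, 3, 1, 3, 3, 1, 3, 3, 1, 3, 3, 1, 3, 3, 1, 3, 3, 1, 3, 3, 1, 3, 3, 1]))) (.node 118 (.node 117 (.leaf 2 25 [3, 1, 3, 1, 2, 1, 6, 1, 2, 1, 2, 1, 3, 1, 2, 1, 2, 1, 3, 1, 2, 1, 2, 1, 2, 1, 3, 1, 3, 1, 3, 1]) (.leaf 10 33 [1, 3, 3, 1, 3, 3, 1, 3, 3, 1, 3, 3, 1, 3, 3, 1, 3, 3, 1, 3, 3, 1, 3,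 3, 1, 3, 3, 1, 3, 3, 1, 3, 3, 1, 3, 3, 1, 3, 3])) (.node 119 (.leaf 10 9 [1, 3, 3, 1, 3, 3, 1, 3, 3, 1, 3, 3, 1, 3, 3, 1, 3, 3, 1, 3, 3, 1, 3, 3, 1, 3, 3, 1, 3, 3, 1, 3, 3, 1, 3, 3, 1, 3, 3]) (.leaf 10 16 [3, 3, 1, 3, 3, 1, 3, 3, 1, 3, 3, 1, 3, 3, 1, 3, 3, 1, 3, 3, 1, 3, 3, 1, 3, 3, 1, 3, 3, 1, 3, 3, 1, 3, 3, 1, 3, 3, 1])))))))) (.node 180 (.node 150 (.node 135 (.node 127 (.node 123 (.node 121 (.leaf 10 17 [3, 1, 3, 3, 1, 3, 3, 1, 3, 3, 1, 3, 3, 1, 3, 3, 1, 3, 3, 1, 3, 3, 1, 3, 3, 1, 3, 3, 1, 3, 3, 1, 3, 3, 1, 3, 3, 1, 3]) (.node 122 (.leaf 19 6 [2, 1, 2, 1, 3, 1, 3, 1, 2, 1, 2, 1, 3, 1, 3, 1, 2, 1, 2, 1, 2, 4, 3, 1, 3, 1, 3, 1]) (.leaf 8 9 [3, 1, 3, 1, 3, 1, 3,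 1, 3, 1, 3, 1, 3, 1, 3, 1, 3, 1, 3, 1, 3, 1, 3, 1, 3, 1]))) (.node 125 (.node 124 (.leaf 10 38 [3, 1, 3, 3, 1, 3, 3, 1, 3, 3, 1, 3, 3, 1, 3, 3, 1, 3, 3, 1, 3, 3, 1, 3, 3, 1, 3, 3, 1, 3, 3, 1, 3, 3, 1, 3, 3, 1, 3]) (.leaf 10 26 [3, 1, 3, 3, 1, 3, 3, 1, 3, 3, 1, 3, 3, 1, 3, 3, 1, 3, 3, 1, 3, 3, 1, 3, 3, 1, 3, 3, 1, 3, 3, 1, 3, 3, 1, 3, 3, 1, 3])) (.node 126 (.leaf 10 29 [3, 1, 3, 3, 1, 3, 3, 1, 3, 3, 1, 3, 3, 1, 3, 3, 1, 3, 3, 1, 3, 3, 1, 3, 3, 1, 3, 3, 1, 3, 3, 1, 3, 3, 1, 3, 3, 1, 3]) (.leaf 10 8 [3, 1, 3, 3, 1, 3, 3, 1, 3, 3, 1, 3, 3, 1, 3, 3, 1, 3, 3, 1, 3, 3, 1, 3, 3, 1, 3, 3, 1, 3, 3, 1, 3, 3, 1, 3, 3, 1, 3])))) (.node 131 (.node 129 (.node 128 (.leaf 19 0 [3,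 1, 3, 1, 3, 1, 2, 1, 2, 1, 3, 1, 3, 1, 2, 1, 2, 1, 3, 1, 3, 1, 2, 1, 2, 1, 2, 4]) (.leaf 8 20 [1, 3, 1, 3, 1, 3, 1, 3, 1, 3, 1, 3, 1, 3, 1, 3, 1, 3, 1, 3, 1, 3, 1, 3, 1, 3])) (.node 130 (.leaf 10 24 [1, 3, 3, 1, 3, 3, 1, 3, 3, 1, 3, 3, 1, 3, 3, 1, 3, 3, 1, 3, 3, 1, 3, 3, 1, 3, 3, 1, 3, 3, 1, 3, 3, 1, 3, 3, 1, 3, 3]) (.leaf 11 18 [1, 3, 1, 2, 1, 3, 1, 2, 1, 3, 1, 2, 1, 3, 1, 2, 1, 3, 1, 2]))) (.node 133 (.node 132 (.leaf 9 21 [1, 2, 2, 1, 2, 2, 1, 2, 2, 1, 2, 2, 1, 2, 2, 1, 2, 2, 1, 2, 2, 1, 2, 2, 1, 2, 2, 1, 2, 2, 1, 2, 2, 1, 2, 2, 1, 2, 2]) (.leaf 7 4 [1, 2, 1, 2, 1, 2, 1, 2, 1, 2, 1, 2, 1, 2, 1, 2, 1, 2, 1, 2, 1, 2, 1, 2, 1, 2])) (.node 134 (.leaf 19 11 [1, 3,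 1, 2, 1, 2, 1, 3, 1, 3, 1, 2, 1, 2, 1, 2, 4, 3, 1, 3, 1, 3, 1, 2, 1, 2, 1, 3]) (.leaf 19 23 [1, 2, 1, 2, 4, 3, 1, 3, 1, 3, 1, 2, 1, 2, 1, 3, 1, 3, 1, 2, 1, 2, 1, 3, 1, 3, 1, 2]))))) (.node 142 (.node 138 (.node 136 (.leaf 11 4 [1, 2, 1, 3, 1, 2, 1, 3, 1, 2, 1, 3, 1, 2, 1, 3, 1, 2, 1, 3]) (.node 137 (.leaf 8 21 [3, 1, 3, 1, 3, 1, 3, 1, 3, 1, 3, 1, 3, 1, 3, 1, 3, 1, 3, 1, 3, 1, 3, 1, 3, 1]) (.leaf 10 10 [3, 3, 1, 3, 3, 1, 3, 3, 1, 3, 3, 1, 3, 3, 1, 3, 3, 1, 3, 3, 1, 3, 3, 1, 3, 3, 1, 3, 3, 1, 3, 3, 1, 3, 3, 1, 3, 3, 1]))) (.node 140 (.node 139 (.leaf 9 31 [2, 2, 1, 2, 2, 1, 2, 2, 1, 2, 2, 1, 2, 2, 1, 2, 2, 1, 2, 2, 1, 2, 2, 1, 2, 2, 1, 2, 2, 1, 2, 2, 1, 2, 2, 1, 2,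 2, 1]) (.leaf 10 6 [1, 3, 3, 1, 3, 3, 1, 3, 3, 1, 3, 3, 1, 3, 3, 1, 3, 3, 1, 3, 3, 1, 3, 3, 1, 3, 3, 1, 3, 3, 1, 3, 3, 1, 3, 3, 1, 3, 3])) (.node 141 (.leaf 20 30 [7, 8, 4, 5, 4, 5, 5, 5, 4, 6, 4, 5, 2, 1, 2, 1, 2, 1, 2, 1, 3, 1, 3, 1, 3, 1, 2, 1, 3, 1, 3, 1, 2, 1, 3, 1, 3, 1, 3, 1, 2, 1]) (.leaf 7 17 [2, 1, 2, 1, 2, 1, 2, 1, 2, 1, 2, 1, 2, 1, 2, 1, 2, 1, 2, 1, 2, 1, 2, 1, 2, 1])))) (.node 146 (.node 144 (.node 143 (.leaf 20 39 [6, 4, 5, 2, 1, 2, 1, 2, 1, 2, 1, 3, 1, 3, 1, 3, 1, 2, 1, 3, 1, 3, 1, 2, 1, 3, 1, 3, 1, 3, 1, 2, 1, 7, 8, 4, 5, 4, 5, 5, 5, 4]) (.leaf 20 37 [5, 4, 6, 4, 5, 2, 1, 2, 1, 2, 1, 2, 1, 3, 1, 3, 1, 3, 1, 2, 1, 3, 1, 3, 1, 2, 1, 3, 1, 3, 1, 3,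 1, 2, 1, 7, 8, 4, 5, 4, 5, 5])) (.node 145 (.leaf 20 31 [8, 4, 5, 4, 5, 5, 5, 4, 6, 4, 5, 2, 1, 2, 1, 2, 1, 2, 1, 3, 1, 3, 1, 3, 1, 2, 1, 3, 1, 3, 1, 2, 1, 3, 1, 3, 1, 3, 1, 2, 1, 7]) (.leaf 15 16 [7, 6, 4, 5, 4, 5, 5, 4, 5, 4, 6, 2, 1, 2, 1, 3, 1, 3, 1, 2, 1, 2, 1, 3, 1, 3, 8]))) (.node 148 (.node 147 (.leaf 22 34 [7, 4, 6, 4, 5, 4, 6, 4, 5, 5, 3, 1, 3, 1, 3, 1, 3, 1, 2, 1, 2, 1, 2, 1, 3, 1, 3, 1, 2, 1, 2, 1, 2, 1, 3, 1, 2, 1, 2, 1, 3, 1, 7, 8]) (.leaf 8 22 [1, 3, 1, 3, 1, 3, 1, 3, 1, 3, 1, 3, 1, 3, 1, 3, 1, 3, 1, 3, 1, 3, 1, 3, 1, 3])) (.node 149 (.leaf 15 15 [8, 7, 6, 4, 5, 4, 5, 5, 4, 5, 4, 6, 2, 1, 2, 1, 3, 1, 3, 1, 2, 1, 2, 1, 3, 1, 3]) (.leaf 4 7 [5, 4, 8,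 4, 6, 6, 6, 4, 5, 5])))))) (.node 165 (.node 157 (.node 153 (.node 151 (.leaf 17 21 [7, 8, 4, 5, 4, 6, 4, 6, 6, 3, 1, 3, 1, 2, 1, 3, 1, 3, 1, 2, 1, 2, 1, 3, 1, 2, 1, 2, 7, 8]) (.node 152 (.leaf 16 18 [7, 6, 4, 5, 4, 5, 5, 4, 5, 4, 6, 1, 2, 1, 2, 1, 3, 1, 3, 1, 2, 1, 2, 1, 3, 1, 3, 1, 8]) (.leaf 15 19 [5, 4, 5, 5, 4, 5, 4, 6, 2, 1, 2, 1, 3, 1, 3, 1, 2, 1, 2, 1, 3, 1, 3, 8, 7, 6, 4]))) (.node 155 (.node 154 (.leaf 22 32 [7, 8, 7, 4, 6, 4, 5, 4, 6, 4, 5, 5, 3, 1, 3, 1, 3, 1, 3, 1, 2, 1, 2, 1, 2, 1, 3, 1, 3, 1, 2, 1, 2, 1, 2, 1, 3, 1, 2, 1, 2, 1, 3, 1]) (.leaf 8 3 [3, 1, 3, 1, 3, 1, 3, 1, 3, 1, 3, 1, 3, 1, 3, 1, 3, 1, 3, 1, 3, 1, 3, 1, 3, 1])) (.node 156 (.leaf 20 40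 [4, 5, 2, 1, 2, 1, 2, 1, 2, 1, 3, 1, 3, 1, 3, 1, 2, 1, 3, 1, 3, 1, 2, 1, 3, 1, 3, 1, 3, 1, 2, 1, 7, 8, 4, 5, 4, 5, 5, 5, 4, 6]) (.leaf 4 5 [5, 5, 5, 4, 8, 4, 6, 6, 6, 4])))) (.node 161 (.node 159 (.node 158 (.leaf 15 17 [6, 4, 5, 4, 5, 5, 4, 5, 4, 6, 2, 1, 2, 1, 3, 1, 3, 1, 2, 1, 2, 1, 3, 1, 3, 8, 7]) (.leaf 22 33 [8, 7, 4, 6, 4, 5, 4, 6, 4, 5, 5, 3, 1, 3, 1, 3, 1, 3, 1, 2, 1, 2, 1, 2, 1, 3, 1, 3, 1, 2, 1, 2, 1, 2, 1, 3, 1, 2, 1, 2, 1, 3, 1, 7])) (.node 160 (.leaf 16 23 [5, 5, 4, 5, 4, 6, 1, 2, 1, 2, 1, 3, 1, 3, 1, 2, 1, 2, 1, 3, 1, 3, 1, 8, 7, 6, 4, 5, 4]) (.leaf 15 22 [5, 4, 5, 4, 6, 2, 1, 2, 1, 3, 1, 3, 1, 2, 1, 2, 1, 3, 1, 3, 8, 7, 6, 4, 5, 4, 5]))) (.node 163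 (.node 162 (.leaf 16 17 [8, 7, 6, 4, 5, 4, 5, 5, 4, 5, 4, 6, 1, 2, 1, 2, 1, 3, 1, 3, 1, 2, 1, 2, 1, 3, 1, 3, 1]) (.leaf 17 22 [8, 4, 5, 4, 6, 4, 6, 6, 3, 1, 3, 1, 2, 1, 3, 1, 3, 1, 2, 1, 2, 1, 3, 1, 2, 1, 2, 7, 8, 7])) (.node 164 (.leaf 21 31 [7, 8, 7, 8, 7, 4, 5, 5, 5, 4, 6, 6, 6, 3, 1, 3, 1, 2, 1, 2, 1, 3, 1, 3, 1, 3, 1, 2, 1, 3, 1, 2, 1, 2, 1, 2, 1, 3, 1, 3, 1, 2, 1, 2]) (.leaf 22 38 [5, 4, 6, 4, 5, 5, 3, 1, 3, 1, 3, 1, 3, 1, 2, 1, 2, 1, 2, 1, 3, 1, 3, 1, 2, 1, 2, 1, 2, 1, 3, 1, 2, 1, 2, 1, 3, 1, 7, 8, 7, 4, 6, 4]))))) (.node 172 (.node 168 (.node 166 (.leaf 17 26 [6, 4, 6, 6, 3, 1, 3, 1, 2, 1, 3, 1, 3, 1, 2, 1, 2, 1, 3, 1, 2, 1, 2, 7, 8, 7, 8, 4, 5, 4]) (.node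 167 (.leaf 16 22 [4, 5, 5, 4, 5, 4, 6, 1, 2, 1, 2, 1, 3, 1, 3, 1, 2, 1, 2, 1, 3, 1, 3, 1, 8, 7, 6, 4, 5]) (.leaf 15 26 [6, 2, 1, 2, 1, 3, 1, 3, 1, 2, 1, 2, 1, 3, 1, 3, 8, 7, 6, 4, 5, 4, 5, 5, 4, 5, 4]))) (.node 170 (.node 169 (.leaf 17 28 [6, 6, 3, 1, 3, 1, 2, 1, 3, 1, 3, 1, 2, 1, 2, 1, 3, 1, 2, 1, 2, 7, 8, 7, 8, 4, 5, 4, 6, 4]) (.leaf 15 24 [5, 4, 6, 2, 1, 2, 1, 3, 1, 3, 1, 2, 1, 2, 1, 3, 1, 3, 8, 7, 6, 4, 5, 4, 5, 5, 4])) (.node 171 (.leaf 18 31 [6, 6, 6, 4, 5, 5, 1, 3, 1, 3, 1, 2, 1, 3, 1, 3, 1, 2, 1, 2, 1, 3, 1, 2, 1, 2, 1, 7, 8, 7, 8, 4, 5, 4, 5, 5, 4]) (.leaf 20 33 [5, 4, 5, 5, 5, 4, 6, 4, 5, 2, 1, 2, 1, 2, 1, 2, 1, 3, 1, 3, 1, 3, 1, 2, 1, 3, 1, 3, 1, 2, 1,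 3, 1, 3, 1, 3, 1, 2, 1, 7, 8, 4])))) (.node 176 (.node 174 (.node 173 (.leaf 4 2 [6, 6, 4, 5, 5, 5, 4, 8, 4, 6]) (.leaf 18 35 [5, 5, 1, 3, 1, 3, 1, 2, 1, 3, 1, 3, 1, 2, 1, 2, 1, 3, 1, 2, 1, 2, 1, 7, 8, 7, 8, 4, 5, 4, 5, 5, 4, 6, 6, 6, 4])) (.node 175 (.leaf 17 10 [2, 1, 2, 1, 3, 1, 2, 1, 2, 7, 8, 7, 8, 4, 5, 4, 6, 4, 6, 6, 3, 1, 3, 1, 2, 1, 3, 1, 3, 1]) (.leaf 17 19 [7, 8, 7, 8, 4, 5, 4, 6, 4, 6, 6, 3, 1, 3, 1, 2, 1, 3, 1, 3, 1, 2, 1, 2, 1, 3, 1, 2, 1, 2]))) (.node 178 (.node 177 (.leaf 15 21 [5, 5, 4, 5, 4, 6, 2, 1, 2, 1, 3, 1, 3, 1, 2, 1, 2, 1, 3, 1, 3, 8, 7, 6, 4, 5, 4]) (.leaf 14 9 [7, 3, 1, 2, 1, 3, 1, 2, 7, 8])) (.node 179 (.leaf 14 7 [7, 8, 7, 3, 1, 2, 1,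 3, 1, 2]) (.leaf 21 39 [5, 4, 6, 6, 6, 3, 1, 3, 1, 2, 1, 2, 1, 3, 1, 3, 1, 3, 1, 2, 1, 3, 1, 2, 1, 2, 1, 2, 1, 3, 1, 3, 1, 2, 1, 2, 7, 8, 7, 8, 7, 4, 5, 5]))))))) (.node 210 (.node 195 (.node 187 (.node 183 (.node 181 (.leaf 17 6 [3, 1, 3, 1, 2, 1, 2, 1, 3, 1, 2, 1, 2, 7, 8, 7, 8, 4, 5, 4, 6, 4, 6, 6, 3, 1, 3, 1, 2, 1]) (.node 182 (.leaf 18 30 [4, 6, 6, 6, 4, 5, 5, 1, 3, 1, 3, 1, 2, 1, 3, 1, 3, 1, 2, 1, 2, 1, 3, 1, 2, 1, 2, 1, 7, 8, 7, 8, 4, 5, 4, 5, 5]) (.leaf 21 38 [5, 5, 4, 6, 6, 6, 3, 1, 3, 1, 2, 1, 2, 1, 3, 1, 3, 1, 3, 1, 2, 1, 3, 1, 2, 1, 2, 1, 2, 1, 3, 1, 3, 1, 2, 1, 2, 7, 8, 7, 8, 7, 4, 5]))) (.node 185 (.node 184 (.leaf 17 20 [8, 7, 8, 4, 5, 4, 6, 4, 6,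 6, 3, 1, 3, 1, 2, 1, 3, 1, 3, 1, 2, 1, 2, 1, 3, 1, 2, 1, 2, 7]) (.leaf 4 3 [6, 4, 5, 5, 5, 4, 8, 4, 6, 6])) (.node 186 (.leaf 22 43 [5, 3, 1, 3, 1, 3, 1, 3, 1, 2, 1, 2, 1, 2, 1, 3, 1, 3, 1, 2, 1, 2, 1, 2, 1, 3, 1, 2, 1, 2, 1, 3, 1, 7, 8, 7, 4, 6, 4, 5, 4, 6, 4, 5]) (.leaf 4 8 [4, 8, 4, 6, 6, 6, 4, 5, 5, 5])))) (.node 191 (.node 189 (.node 188 (.leaf 2 23 [3, 1, 3, 1, 3, 1, 2, 1, 6, 1, 2, 1, 2, 1, 3, 1, 2, 1, 2, 1, 3, 1, 2, 1, 2, 1, 2, 1, 3, 1, 3, 1]) (.leaf 21 35 [7, 4, 5, 5, 5, 4, 6, 6, 6, 3, 1, 3, 1, 2, 1, 2, 1, 3, 1, 3, 1, 3, 1, 2, 1, 3, 1, 2, 1, 2, 1, 2, 1, 3, 1, 3, 1, 2, 1, 2, 7, 8, 7, 8])) (.node 190 (.leaf 22 41 [4, 5, 5, 3, 1, 3, 1, 3, 1, 3, 1, 2, 1, 2,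 1, 2, 1, 3, 1, 3, 1, 2, 1, 2, 1, 2, 1, 3, 1, 2, 1, 2, 1, 3, 1, 7, 8, 7, 4, 6, 4, 5, 4, 6]) (.leaf 21 4 [2, 1, 2, 1, 3, 1, 3, 1, 3, 1, 2, 1, 3, 1, 2, 1, 2, 1, 2, 1, 3, 1, 3, 1, 2, 1, 2, 7, 8, 7, 8, 7, 4, 5, 5, 5, 4, 6, 6, 6, 3, 1, 3, 1]))) (.node 193 (.node 192 (.leaf 16 26 [5, 4, 6, 1, 2, 1, 2, 1, 3, 1, 3, 1, 2, 1, 2, 1, 3, 1, 3, 1, 8, 7, 6, 4, 5, 4, 5, 5, 4]) (.leaf 18 33 [6, 4, 5, 5, 1, 3, 1, 3, 1, 2, 1, 3, 1, 3, 1, 2, 1, 2, 1, 3, 1, 2, 1, 2, 1, 7, 8, 7, 8, 4, 5, 4, 5, 5, 4, 6, 6])) (.node 194 (.leaf 20 41 [5, 2, 1, 2, 1, 2, 1, 2, 1, 3, 1, 3, 1, 3, 1, 2, 1, 3, 1, 3, 1, 2, 1, 3, 1, 3, 1, 3, 1, 2, 1, 7, 8, 4, 5, 4, 5, 5, 5, 4, 6, 4]) (.leaf 21 37 [5, 5, 5, 4, 6,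 6, 6, 3, 1, 3, 1, 2, 1, 2, 1, 3, 1, 3, 1, 3, 1, 2, 1, 3, 1, 2, 1, 2, 1, 2, 1, 3, 1, 3, 1, 2, 1, 2, 7, 8, 7, 8, 7, 4]))))) (.node 202 (.node 198 (.node 196 (.leaf 21 32 [8, 7, 8, 7, 4, 5, 5, 5, 4, 6, 6, 6, 3, 1, 3, 1, 2, 1, 2, 1, 3, 1, 3, 1, 3, 1, 2, 1, 3, 1, 2, 1, 2, 1, 2, 1, 3, 1, 3, 1, 2, 1, 2, 7]) (.node 197 (.leaf 15 18 [4, 5, 4, 5, 5, 4, 5, 4, 6, 2, 1, 2, 1, 3, 1, 3, 1, 2, 1, 2, 1, 3, 1, 3, 8, 7, 6]) (.leaf 21 33 [7, 8, 7, 4, 5, 5, 5, 4, 6, 6, 6, 3, 1, 3, 1, 2, 1, 2, 1, 3, 1, 3, 1, 3, 1, 2, 1, 3, 1, 2, 1, 2, 1, 2, 1, 3, 1, 3, 1, 2, 1, 2, 7, 8]))) (.node 200 (.node 199 (.leaf 17 29 [6, 3, 1, 3, 1, 2, 1, 3, 1, 3, 1, 2, 1, 2, 1, 3, 1, 2, 1, 2, 7, 8, 7, 8, 4, 5,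 4, 6, 4, 6]) (.leaf 3 0 [5, 4, 5, 4, 6, 4, 6, 7])) (.node 201 (.leaf 3 6 [6, 7, 5, 4, 5, 4, 6, 4]) (.leaf 15 23 [4, 5, 4, 6, 2, 1, 2, 1, 3, 1, 3, 1, 2, 1, 2, 1, 3, 1, 3, 8, 7, 6, 4, 5, 4, 5, 5])))) (.node 206 (.node 204 (.node 203 (.leaf 2 13 [2, 1, 2, 1, 2, 1, 3, 1, 3, 1, 3, 1, 3, 1, 3, 1, 2, 1, 6, 1, 2, 1, 2, 1, 3, 1, 2, 1, 2, 1, 3, 1]) (.leaf 2 0 [1, 2, 1, 2, 1, 3, 1, 2, 1, 2, 1, 3, 1, 2, 1, 2, 1, 2, 1, 3, 1, 3, 1, 3, 1, 3, 1, 3, 1, 2, 1, 6])) (.node 205 (.leaf 18 24 [8, 4, 5, 4, 5, 5, 4, 6, 6, 6, 4, 5, 5, 1, 3, 1, 3, 1, 2, 1, 3, 1, 3, 1, 2, 1, 2, 1, 3, 1, 2, 1, 2, 1, 7, 8, 7]) (.leaf 18 29 [5, 4, 6, 6, 6, 4, 5, 5, 1, 3, 1, 3, 1, 2, 1, 3, 1, 3, 1, 2, 1, 2, 1,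 3, 1, 2, 1, 2, 1, 7, 8, 7, 8, 4, 5, 4, 5]))) (.node 208 (.node 207 (.leaf 15 12 [3, 1, 3, 8, 7, 6, 4, 5, 4, 5, 5, 4, 5, 4, 6, 2, 1, 2, 1, 3, 1, 3, 1, 2, 1, 2, 1]) (.leaf 22 20 [2, 1, 2, 1, 3, 1, 2, 1, 2, 1, 3, 1, 7, 8, 7, 4, 6, 4, 5, 4, 6, 4, 5, 5, 3, 1, 3, 1, 3, 1, 3, 1, 2, 1, 2, 1, 2, 1, 3, 1, 3, 1, 2, 1])) (.node 209 (.leaf 22 0 [3, 1, 3, 1, 3, 1, 3, 1, 2, 1, 2, 1, 2, 1, 3, 1, 3, 1, 2, 1, 2, 1, 2, 1, 3, 1, 2, 1, 2, 1, 3, 1, 7, 8, 7, 4, 6, 4, 5, 4, 6, 4, 5, 5]) (.leaf 20 28 [2, 1, 7, 8, 4, 5, 4, 5, 5, 5, 4, 6, 4, 5, 2, 1, 2, 1, 2, 1, 2, 1, 3, 1, 3, 1, 3, 1, 2, 1, 3, 1, 3, 1, 2, 1, 3, 1, 3, 1, 3, 1])))))) (.node 225 (.node 217 (.node 213 (.node 211 (.leaf 17 25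 [4, 6, 4, 6, 6, 3, 1, 3, 1, 2, 1, 3, 1, 3, 1, 2, 1, 2, 1, 3, 1, 2, 1, 2, 7, 8, 7, 8, 4, 5]) (.node 212 (.leaf 4 1 [6, 6, 6, 4, 5, 5, 5, 4, 8, 4]) (.leaf 21 22 [2, 1, 3, 1, 3, 1, 2, 1, 2, 7, 8, 7, 8, 7, 4, 5, 5, 5, 4, 6, 6, 6, 3, 1, 3, 1, 2, 1, 2, 1, 3, 1, 3, 1, 3, 1, 2, 1, 3, 1, 2, 1, 2, 1]))) (.node 215 (.node 214 (.leaf 20 7 [1, 3, 1, 3, 1, 3, 1, 2, 1, 3, 1, 3, 1, 2, 1, 3, 1, 3, 1, 3, 1, 2, 1, 7, 8, 4, 5, 4, 5, 5, 5, 4, 6, 4, 5, 2, 1, 2, 1, 2, 1, 2]) (.leaf 2 12 [1, 2, 1, 2, 1, 2, 1, 3, 1, 3, 1, 3, 1, 3, 1, 3, 1, 2, 1, 6, 1, 2, 1, 2, 1, 3, 1, 2, 1, 2, 1, 3])) (.node 216 (.leaf 21 23 [1, 3, 1, 3, 1, 2, 1, 2, 7, 8, 7, 8, 7, 4, 5, 5, 5, 4, 6, 6, 6, 3, 1, 3, 1, 2,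 1, 2, 1, 3, 1, 3, 1, 3, 1, 2, 1, 3, 1, 2, 1, 2, 1, 2]) (.leaf 21 12 [3, 1, 2, 1, 3, 1, 2, 1, 2, 1, 2, 1, 3, 1, 3, 1, 2, 1, 2, 7, 8, 7, 8, 7, 4, 5, 5, 5, 4, 6, 6, 6, 3, 1, 3, 1, 2, 1, 2, 1, 3, 1, 3, 1])))) (.node 221 (.node 219 (.node 218 (.leaf 22 42 [5, 5, 3, 1, 3, 1, 3, 1, 3, 1, 2, 1, 2, 1, 2, 1, 3, 1, 3, 1, 2, 1, 2, 1, 2, 1, 3, 1, 2, 1, 2, 1, 3, 1, 7, 8, 7, 4, 6, 4, 5, 4, 6, 4]) (.leaf 21 16 [3, 1, 2, 1, 2, 1, 2, 1, 3, 1, 3, 1, 2, 1, 2, 7, 8, 7, 8, 7, 4, 5, 5, 5, 4, 6, 6, 6, 3, 1, 3, 1, 2, 1, 2, 1, 3, 1, 3, 1, 3, 1, 2, 1])) (.node 220 (.leaf 21 34 [8, 7, 4, 5, 5, 5, 4, 6, 6, 6, 3, 1, 3, 1, 2, 1, 2, 1, 3, 1, 3, 1, 3, 1, 2, 1, 3, 1, 2, 1, 2, 1, 2, 1, 3, 1, 3, 1,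 2, 1, 2, 7, 8, 7]) (.leaf 21 18 [2, 1, 2, 1, 2, 1, 3, 1, 3, 1, 2, 1, 2, 7, 8, 7, 8, 7, 4, 5, 5, 5, 4, 6, 6, 6, 3, 1, 3, 1, 2, 1, 2, 1, 3, 1, 3, 1, 3, 1, 2, 1, 3, 1]))) (.node 223 (.node 222 (.leaf 22 18 [2, 1, 2, 1, 2, 1, 3, 1, 2, 1, 2, 1, 3, 1, 7, 8, 7, 4, 6, 4, 5, 4, 6, 4, 5, 5, 3, 1, 3, 1, 3, 1, 3, 1, 2, 1, 2, 1, 2, 1, 3, 1, 3, 1]) (.leaf 3 2 [5, 4, 6, 4, 6, 7, 5, 4])) (.node 224 (.leaf 20 18 [3, 1, 2, 1, 3, 1, 3, 1, 3, 1, 2, 1, 7, 8, 4, 5, 4, 5, 5, 5, 4, 6, 4, 5, 2, 1, 2, 1, 2, 1, 2, 1, 3, 1, 3, 1, 3, 1, 2, 1, 3, 1]) (.leaf 20 3 [1, 2, 1, 2, 1, 3, 1, 3, 1, 3, 1, 2, 1, 3, 1, 3, 1, 2, 1, 3, 1, 3, 1, 3, 1, 2, 1, 7, 8, 4, 5, 4, 5, 5, 5, 4, 6, 4, 5, 2, 1, 2])))))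 (.node 232 (.node 228 (.node 226 (.leaf 20 10 [3, 1, 3, 1, 2, 1, 3, 1, 3, 1, 2, 1, 3, 1, 3, 1, 3, 1, 2, 1, 7, 8, 4, 5, 4, 5, 5, 5, 4, 6, 4, 5, 2, 1, 2, 1, 2, 1, 2, 1, 3, 1]) (.node 227 (.leaf 15 4 [3, 1, 3, 1, 2, 1, 2, 1, 3, 1, 3, 8, 7, 6, 4, 5, 4, 5, 5, 4, 5, 4, 6, 2, 1, 2, 1]) (.leaf 22 10 [2, 1, 2, 1, 3, 1, 3, 1, 2, 1, 2, 1, 2, 1, 3, 1, 2, 1, 2, 1, 3, 1, 7, 8, 7, 4, 6, 4, 5, 4, 6, 4, 5, 5, 3, 1, 3, 1, 3, 1, 3, 1, 2, 1]))) (.node 230 (.node 229 (.leaf 16 13 [3, 1, 3, 1, 8, 7, 6, 4, 5, 4, 5, 5, 4, 5, 4, 6, 1, 2, 1, 2, 1, 3, 1, 3, 1, 2, 1, 2, 1]) (.leaf 17 24 [5, 4, 6, 4, 6, 6, 3, 1, 3, 1, 2, 1, 3, 1, 3, 1, 2, 1, 2, 1, 3, 1, 2, 1, 2, 7, 8, 7, 8, 4])) (.node 231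 (.leaf 21 43 [6, 3, 1, 3, 1, 2, 1, 2, 1, 3, 1, 3, 1, 3, 1, 2, 1, 3, 1, 2, 1, 2, 1, 2, 1, 3, 1, 3, 1, 2, 1, 2, 7, 8, 7, 8, 7, 4, 5, 5, 5, 4, 6, 6]) (.leaf 18 28 [5, 5, 4, 6, 6, 6, 4, 5, 5, 1, 3, 1, 3, 1, 2, 1, 3, 1, 3, 1, 2, 1, 2, 1, 3, 1, 2, 1, 2, 1, 7, 8, 7, 8, 4, 5, 4])))) (.node 236 (.node 234 (.node 233 (.leaf 21 20 [2, 1, 2, 1, 3, 1, 3, 1, 2, 1, 2, 7, 8, 7, 8, 7, 4, 5, 5, 5, 4, 6, 6, 6, 3, 1, 3, 1, 2, 1, 2, 1, 3, 1, 3, 1, 3, 1, 2, 1, 3, 1, 2, 1]) (.leaf 18 21 [7, 8, 7, 8, 4, 5, 4, 5, 5, 4, 6, 6, 6, 4, 5, 5, 1, 3, 1, 3, 1, 2, 1, 3, 1, 3, 1, 2, 1, 2, 1, 3, 1, 2, 1, 2, 1])) (.node 235 (.leaf 21 26 [3, 1, 2, 1, 2, 7, 8, 7, 8, 7, 4, 5, 5, 5, 4, 6, 6, 6, 3, 1, 3,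 1, 2, 1, 2, 1, 3, 1, 3, 1, 3, 1, 2, 1, 3, 1, 2, 1, 2, 1, 2, 1, 3, 1]) (.leaf 22 7 [1, 2, 1, 2, 1, 2, 1, 3, 1, 3, 1, 2, 1, 2, 1, 2, 1, 3, 1, 2, 1, 2, 1, 3, 1, 7, 8, 7, 4, 6, 4, 5, 4, 6, 4, 5, 5, 3, 1, 3, 1, 3, 1, 3]))) (.node 238 (.node 237 (.leaf 16 7 [3, 1, 2, 1, 2, 1, 3, 1, 3, 1, 8, 7, 6, 4, 5, 4, 5, 5, 4, 5, 4, 6, 1, 2, 1, 2, 1, 3, 1]) (.leaf 22 30 [3, 1, 7, 8, 7, 4, 6, 4, 5, 4, 6, 4, 5, 5, 3, 1, 3, 1, 3, 1, 3, 1, 2, 1, 2, 1, 2, 1, 3, 1, 3, 1, 2, 1, 2, 1, 2, 1, 3, 1, 2, 1, 2, 1])) (.node 239 (.leaf 18 22 [8, 7, 8, 4, 5, 4, 5, 5, 4, 6, 6, 6, 4, 5, 5, 1, 3, 1, 3, 1, 2, 1, 3, 1, 3, 1, 2, 1, 2, 1, 3, 1, 2, 1, 2, 1, 7]) (.leaf 18 36 [5, 1, 3, 1, 3, 1, 2, 1, 3, 1,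 3, 1, 2, 1, 2, 1, 3, 1, 2, 1, 2, 1, 7, 8, 7, 8, 4, 5, 4, 5, 5, 4, 6, 6, 6, 4, 5])))))))))

theorem b0 : allR (guardB 35 (blk fc sc rt.get Cfsg.Agent.Lib.Helper3.Tit.INV isH)) 5 0 = true := by decide +kernel
theorem b1 : allR (guardB 35 (blk fc sc rt.get Cfsg.Agent.Lib.Helper3.Tit.INV isH)) 5 32 = true := by decide +kernel
theorem c0 : allR (guardB 55 (cblk fc nc cc 8960 1755 79228162514264337593543950336 gens)) 5 0 = true := by decide +kernel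
theorem c1 : allR (guardB 55 (cblk fc nc cc 8960 1755 79228162514264337593543950336 gens)) 5 32 = true := by decide +kernel

theorem chkAll : ∀ j < 35, blk fc sc rt.get Cfsg.Agent.Lib.Helper3.Tit.INV isH j = true :=
  guardB_spec (D := 6) (allR_join b0 b1 (by norm_num)) (by norm_num)

theorem clAll : ∀ jb < 55, cblk fc nc cc (256 * 35) 1755 79228162514264337593543950336 gens jb = true :=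
  guardB_spec (D := 6) (allR_join c0 c1 (by norm_num)) (by norm_num)

theorem hid_0 : BR_0.all (wordId (ntOf Cfsg.Agent.Lib.Helper3.Tit.ntl) 11) = true := by decide +kernel
theorem hid : BR.all (wordId (ntOf Cfsg.Agent.Lib.Helper3.Tit.ntl) 11) = true := by
  simp only [BR, List.all_append, hid_0, Bool.and_self]

theorem card_eq : Nat.card (lgrp (vL Cfsg.Agent.Lib.Helper3.Tit.ntl Cfsg.Agent.Lib.Helper3.Tit.deg) gens) = 1755 * Nat.card (lgrp (vL Cfsg.Agent.Lib.Helper3.Tit.ntl Cfsg.Agent.Lib.Helper3.Tit.deg) hl) :=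
  Cfsg.Agent.Lib.Helper3.Tit.setup.level gens hl dl BR (by decide +kernel) (by decide +kernel) hid (by decide +kernel)
    (by decide +kernel) rt (by decide +kernel) isH (fun l h => of_decide_eq_true h) fc sc nc cc 35 55 1755 79228162514264337593543950336
    (by norm_num) (by norm_num) (by decide +kernel) (by decide) chkAll clAll
    0 0 20 (by norm_num [Cfsg.Agent.Lib.Helper3.Tit.deg]) (by norm_num [Cfsg.Agent.Lib.Helper3.Tit.deg]) (by decide +kernel) (by decide +kernel)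

theorem ub {M : Type*} [Group M] (w : ℕ → M) (h0 : w 0 = 1) (hinv : ∀ l, w (invL Cfsg.Agent.Lib.Helper3.Tit.INV l) = (w l)⁻¹)
    (hBR : ∀ r ∈ BR, (r.map w).prod = 1)
    (hdlr : ∀ r ∈ dl.map (fun p => p.1 ++ [p.2]), (r.map w).prod = 1) (N : ℕ) (hN : Bd w hl N) :
    Bd w gens (1755 * N) :=
  level_bd w Cfsg.Agent.Lib.Helper3.Tit.INV h0 hinv gens hl dl BR (by decide +kernel) hdlr hBR (by decide +kernel) (by decide +kernel)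
    rt (by decide +kernel) isH (fun l h => of_decide_eq_true h) fc sc nc cc 35 55 1755 79228162514264337593543950336
    (by norm_num) (by norm_num) (by decide +kernel) (by decide) chkAll clAll N hN

end Cfsg.Agent.Lib.Helper3.Tit.L1
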