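import Cfsg.Agent.Lib.Helper3.Tit.L2D
import Cfsg.Agent.Lib.Helper3.Tit.Net

set_option autoImplicit false
set_option maxRecDepth 100000

namespace Cfsg.Agent.Lib.Helper3.Tit.L2

open Cfsg.Agent.Lib.Helper11 Cfsg.Agent.Lib.Helper3

set_option maxHeartbeats 0
set_option Elab.async false

noncomputable def fc (i : ℕ) : ℕ := (fc0_0 i)
noncomputable def sc (i : ℕ) : ℕ := (sc0_0 i)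
noncomputable def nc (i : ℕ) : ℕ := (nc0_0 i)
noncomputable def cc (i : ℕ) : ℕ := (Bool.rec (cc0_0 i) (cc0_1 i) (Nat.ble 16 i))

def isH (l : ℕ) : Bool := decide (l ∈ [7, 8])
def gens : List ℕ := [4, 5]
def hl : List ℕ := [7, 8]
def dl : List (List ℕ × ℕ) := [([5], 6), ([5, 4, 5, 4, 6, 4, 6], 7), ([4, 6, 6, 6, 4, 5, 5, 5, 4], 8)]
def BR_0 : List (List ℕ) := [[], [5, 4, 5, 4, 6, 4, 6, 7], [4, 6, 6, 6, 4, 5, 5, 5, 4, 8], [5, 5, 5, 5, 5, 5, 5, 5], [6, 6, 6, 6, 6, 6, 6, 6], [4, 5, 4, 5, 4, 5, 4, 5, 4, 5, 4, 5, 4, 5, 4, 5, 4, 5, 4, 5, 4, 5, 4, 5, 4, 5, 4, 5, 4, 5, 4, 5], [4, 6, 4, 6, 4, 6, 4, 6, 4, 6, 4, 6, 4, 6, 4, 6, 4, 6, 4, 6, 4, 6, 4, 6, 4, 6, 4, 6, 4, 6, 4, 6], [4, 5, 5, 4, 5, 5, 4, 5, 5, 4, 5, 5, 4, 5, 5],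 [4, 6, 6, 4, 6, 6, 4, 6, 6, 4, 6, 6, 4, 6, 6], [4, 5, 4, 6, 4, 5, 4, 6, 4, 5, 4, 6, 4, 5, 4, 6, 4, 5, 4, 6], [6, 4, 5, 5, 4, 6, 4, 5, 4, 5, 4, 6, 6, 8, 7, 8], [6, 4, 6, 6, 4, 5, 4, 6, 4, 5, 5, 4, 5, 7], [6, 4, 6, 6, 4, 5, 5, 5, 4, 5, 4, 5, 4, 8, 7, 8, 7], [4, 6, 6, 4, 5, 5, 4, 6, 6, 4, 5, 5, 4, 7, 8, 7], [4, 6, 4, 6, 4, 5, 4, 6, 6, 4, 5, 5, 5, 8]]
def BR : List (List ℕ) := BR_0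
set_option maxRecDepth 10000000 in
noncomputable def rt : RT := (.node 77 (.node 38 (.node 19 (.node 9 (.node 4 (.node 2 (.node 1 (.leaf 0 0 []) (.leaf 1 7 [7, 5, 4, 5, 4, 6, 4, 6])) (.node 3 (.leaf 2 4 [4, 5, 5, 5, 4, 8, 4, 6, 6, 6]) (.leaf 2 9 [8, 4, 6, 6, 6, 4, 5, 5, 5, 4]))) (.node 6 (.node 5 (.leaf 7 7 [5, 5, 4, 5, 5, 4, 5, 5, 4, 5, 5, 4, 5, 5, 4]) (.leaf 8 7 [6, 6, 4, 6, 6, 4, 6, 6, 4, 6, 6, 4, 6, 6, 4])) (.node 7 (.leaf 9 10 [4, 6, 4, 5, 4, 6, 4, 5, 4, 6, 4, 5, 4, 6, 4, 5, 4, 6, 4, 5]) (.node 8 (.leaf 1 3 [4, 6, 4, 6, 7, 5, 4, 5]) (.leaf 3 4 [5, 5, 5, 5, 5, 5, 5, 5]))))) (.node 14 (.node 11 (.node 10 (.leaf 7 9 [4, 5, 5, 4, 5, 5, 4, 5, 5, 4, 5, 5, 4, 5, 5]) (.leaf 9 12 [4, 5, 4, 6, 4, 5, 4, 6, 4, 5,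 4, 6, 4, 5, 4, 6, 4, 5, 4, 6])) (.node 12 (.leaf 7 5 [5, 4, 5, 5, 4, 5, 5, 4, 5, 5, 4, 5, 5, 4, 5]) (.node 13 (.leaf 7 10 [5, 5, 4, 5, 5, 4, 5, 5, 4, 5, 5, 4, 5, 5, 4]) (.leaf 3 3 [5, 5, 5, 5, 5, 5, 5, 5])))) (.node 16 (.node 15 (.leaf 10 6 [4, 5, 4, 5, 4, 6, 6, 8, 7, 8, 6, 4, 5, 5, 4, 6]) (.leaf 11 6 [4, 6, 4, 5, 5, 4, 5, 7, 6, 4, 6, 6, 4, 5])) (.node 17 (.leaf 11 13 [7, 6, 4, 6, 6, 4, 5, 4, 6, 4, 5, 5, 4, 5]) (.node 18 (.leaf 11 7 [6, 4, 5, 5, 4, 5, 7, 6, 4, 6, 6, 4, 5, 4]) (.leaf 11 12 [5, 7, 6, 4, 6, 6, 4, 5, 4, 6, 4, 5, 5, 4])))))) (.node 28 (.node 23 (.node 21 (.node 20 (.leaf 11 10 [5, 4, 5, 7, 6, 4, 6, 6, 4, 5, 4, 6, 4, 5]) (.leaf 11 8 [4, 5, 5, 4, 5, 7, 6, 4, 6, 6, 4, 5, 4, 6])) (.node 22 (.leaf 1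 5 [4, 6, 7, 5, 4, 5, 4, 6]) (.leaf 1 6 [6, 7, 5, 4, 5, 4, 6, 4]))) (.node 25 (.node 24 (.leaf 4 6 [6, 6, 6, 6, 6, 6, 6, 6]) (.leaf 7 14 [5, 4, 5, 5, 4, 5, 5, 4, 5, 5, 4, 5, 5, 4, 5])) (.node 26 (.leaf 1 2 [5, 4, 6, 4, 6, 7, 5, 4]) (.node 27 (.leaf 12 6 [5, 5, 4, 5, 4, 5, 4, 8, 7, 8, 7, 6, 4, 6, 6, 4, 5]) (.leaf 3 5 [5, 5, 5, 5, 5, 5, 5, 5]))))) (.node 33 (.node 30 (.node 29 (.leaf 11 2 [6, 6, 4, 5, 4, 6, 4, 5, 5, 4, 5, 7, 6, 4]) (.leaf 8 12 [4, 6, 6, 4, 6, 6, 4, 6, 6, 4, 6, 6, 4, 6, 6])) (.node 31 (.leaf 8 5 [6, 4, 6, 6, 4, 6, 6, 4, 6, 6, 4, 6, 6, 4, 6]) (.node 32 (.leaf 13 6 [4, 6, 6, 4, 5, 5, 4, 7, 8, 7, 4, 6, 6, 4, 5, 5]) (.leaf 7 4 [5, 5, 4, 5, 5, 4, 5, 5, 4, 5, 5, 4, 5, 5, 4])))) (.node 35 (.node 34 (.leaf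 14 6 [4, 6, 6, 4, 5, 5, 5, 8, 4, 6, 4, 6, 4, 5]) (.leaf 14 11 [5, 5, 8, 4, 6, 4, 6, 4, 5, 4, 6, 6, 4, 5])) (.node 36 (.leaf 14 13 [8, 4, 6, 4, 6, 4, 5, 4, 6, 6, 4, 5, 5, 5]) (.node 37 (.leaf 14 3 [6, 4, 5, 4, 6, 6, 4, 5, 5, 5, 8, 4, 6, 4]) (.leaf 14 12 [5, 8, 4, 6, 4, 6, 4, 5, 4, 6, 6, 4, 5, 5]))))))) (.node 57 (.node 47 (.node 42 (.node 40 (.node 39 (.leaf 14 9 [4, 5, 5, 5, 8, 4, 6, 4, 6, 4, 5, 4, 6, 6]) (.leaf 14 10 [5, 5, 5, 8, 4, 6, 4, 6, 4, 5, 4, 6, 6, 4])) (.node 41 (.leaf 14 8 [6, 4, 5, 5, 5, 8, 4, 6, 4, 6, 4, 5, 4, 6]) (.leaf 14 2 [4, 6, 4, 5, 4, 6, 6, 4, 5, 5, 5, 8, 4, 6]))) (.node 44 (.node 43 (.leaf 14 4 [4, 5, 4, 6, 6, 4, 5, 5, 5, 8, 4, 6, 4, 6]) (.leaf 14 5 [5, 4, 6, 6, 4, 5, 5, 5, 8, 4, 6, 4,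 6, 4])) (.node 45 (.leaf 14 7 [6, 6, 4, 5, 5, 5, 8, 4, 6, 4, 6, 4, 5, 4]) (.node 46 (.leaf 2 6 [5, 5, 4, 8, 4, 6, 6, 6, 4, 5]) (.leaf 8 10 [6, 6, 4, 6, 6, 4, 6, 6, 4, 6, 6, 4, 6, 6, 4]))))) (.node 52 (.node 49 (.node 48 (.leaf 9 9 [5, 4, 6, 4, 5, 4, 6, 4, 5, 4, 6, 4, 5, 4, 6, 4, 5, 4, 6, 4]) (.leaf 10 14 [7, 8, 6, 4, 5, 5, 4, 6, 4, 5, 4, 5, 4, 6, 6, 8])) (.node 50 (.leaf 2 8 [4, 8, 4, 6, 6, 6, 4, 5, 5, 5]) (.node 51 (.leaf 12 11 [5, 4, 8, 7, 8, 7, 6, 4, 6, 6, 4, 5, 5, 5, 4, 5, 4]) (.leaf 2 2 [6, 6, 4, 5, 5, 5, 4, 8, 4, 6])))) (.node 54 (.node 53 (.leaf 3 2 [5, 5, 5, 5, 5, 5, 5, 5]) (.leaf 9 5 [5, 4, 6, 4, 5, 4, 6, 4, 5, 4, 6, 4, 5, 4, 6, 4, 5, 4, 6, 4])) (.node 55 (.leaf 3 7 [5, 5, 5, 5, 5, 5, 5, 5]) (.node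 56 (.leaf 7 6 [4, 5, 5, 4, 5, 5, 4, 5, 5, 4, 5, 5, 4, 5, 5]) (.leaf 2 5 [5, 5, 5, 4, 8, 4, 6, 6, 6, 4])))))) (.node 67 (.node 62 (.node 59 (.node 58 (.leaf 10 13 [8, 7, 8, 6, 4, 5, 5, 4, 6, 4, 5, 4, 5, 4, 6, 6]) (.leaf 7 2 [5, 4, 5, 5, 4, 5, 5, 4, 5, 5, 4, 5, 5, 4, 5])) (.node 60 (.leaf 11 3 [6, 4, 5, 4, 6, 4, 5, 5, 4, 5, 7, 6, 4, 6]) (.node 61 (.leaf 12 5 [5, 5, 5, 4, 5, 4, 5, 4, 8, 7, 8, 7, 6, 4, 6, 6, 4]) (.leaf 12 15 [8, 7, 6, 4, 6, 6, 4, 5, 5, 5, 4, 5, 4, 5, 4, 8, 7])))) (.node 64 (.node 63 (.leaf 13 15 [7, 4, 6, 6, 4, 5, 5, 4, 6, 6, 4, 5, 5, 4, 7, 8]) (.leaf 13 7 [6, 6, 4, 5, 5, 4, 7, 8, 7, 4, 6, 6, 4, 5, 5, 4])) (.node 65 (.leaf 13 14 [8, 7, 4, 6, 6, 4, 5, 5, 4, 6, 6, 4, 5, 5, 4, 7]) (.node 66 (.leaf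 4 2 [6, 6, 6, 6, 6, 6, 6, 6]) (.leaf 1 0 [5, 4, 5, 4, 6, 4, 6, 7]))))) (.node 72 (.node 69 (.node 68 (.leaf 10 15 [8, 6, 4, 5, 5, 4, 6, 4, 5, 4, 5, 4, 6, 6, 8, 7]) (.leaf 1 4 [6, 4, 6, 7, 5, 4, 5, 4])) (.node 70 (.leaf 4 3 [6, 6, 6, 6, 6, 6, 6, 6]) (.node 71 (.leaf 12 1 [4, 6, 6, 4, 5, 5, 5, 4, 5, 4, 5, 4, 8, 7, 8, 7, 6]) (.leaf 12 8 [4, 5, 4, 5, 4, 8, 7, 8, 7, 6, 4, 6, 6, 4, 5, 5, 5])))) (.node 74 (.node 73 (.leaf 4 5 [6, 6, 6, 6, 6, 6, 6, 6]) (.leaf 9 18 [4, 6, 4, 5, 4, 6, 4, 5, 4, 6, 4, 5, 4, 6, 4, 5, 4, 6, 4, 5])) (.node 75 (.leaf 11 1 [4, 6, 6, 4, 5, 4, 6, 4, 5, 5, 4, 5, 7, 6]) (.node 76 (.leaf 13 13 [7, 8, 7, 4, 6, 6, 4, 5, 5, 4, 6, 6, 4, 5, 5, 4]) (.leaf 9 14 [4, 6, 4, 5, 4, 6, 4, 5, 4, 6, 4, 5, 4,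 6, 4, 5, 4, 6, 4, 5])))))))) (.node 116 (.node 96 (.node 86 (.node 81 (.node 79 (.node 78 (.leaf 12 13 [8, 7, 8, 7, 6, 4, 6, 6, 4, 5, 5, 5, 4, 5, 4, 5, 4]) (.leaf 7 8 [5, 4, 5, 5, 4, 5, 5, 4, 5, 5, 4, 5, 5, 4, 5])) (.node 80 (.leaf 12 12 [4, 8, 7, 8, 7, 6, 4, 6, 6, 4, 5, 5, 5, 4, 5, 4, 5]) (.leaf 8 3 [4, 6, 6, 4, 6, 6, 4, 6, 6, 4, 6, 6, 4, 6, 6]))) (.node 83 (.node 82 (.leaf 11 5 [5, 4, 6, 4, 5, 5, 4, 5, 7, 6, 4, 6, 6, 4]) (.leaf 3 6 [5, 5, 5, 5, 5, 5, 5, 5])) (.node 84 (.leaf 8 13 [6, 6, 4, 6, 6, 4, 6, 6, 4, 6, 6, 4, 6, 6, 4]) (.node 85 (.leaf 7 12 [4, 5, 5, 4, 5, 5, 4, 5, 5, 4, 5, 5, 4, 5, 5]) (.leaf 8 11 [6, 4, 6, 6, 4, 6, 6, 4, 6, 6, 4, 6, 6, 4, 6]))))) (.node 91 (.node 88 (.node 87 (.leaf 7 11 [5, 4,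 5, 5, 4, 5, 5, 4, 5, 5, 4, 5, 5, 4, 5]) (.leaf 1 1 [4, 5, 4, 6, 4, 6, 7, 5])) (.node 89 (.leaf 10 10 [4, 6, 6, 8, 7, 8, 6, 4, 5, 5, 4, 6, 4, 5, 4, 5]) (.node 90 (.leaf 2 0 [4, 6, 6, 6, 4, 5, 5, 5, 4, 8]) (.leaf 8 4 [6, 6, 4, 6, 6, 4, 6, 6, 4, 6, 6, 4, 6, 6, 4])))) (.node 93 (.node 92 (.leaf 9 7 [6, 4, 5, 4, 6, 4, 5, 4, 6, 4, 5, 4, 6, 4, 5, 4, 6, 4, 5, 4]) (.leaf 4 1 [6, 6, 6, 6, 6, 6, 6, 6])) (.node 94 (.leaf 12 14 [7, 8, 7, 6, 4, 6, 6, 4, 5, 5, 5, 4, 5, 4, 5, 4, 8]) (.node 95 (.leaf 2 3 [6, 4, 5, 5, 5, 4, 8, 4, 6, 6]) (.leaf 12 7 [5, 4, 5, 4, 5, 4, 8, 7, 8, 7, 6, 4, 6, 6, 4, 5, 5])))))) (.node 106 (.node 101 (.node 98 (.node 97 (.leaf 12 2 [6, 6, 4, 5, 5, 5, 4, 5, 4, 5, 4, 8, 7, 8, 7, 6, 4]) (.leaf 12 9 [5,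 4, 5, 4, 8, 7, 8, 7, 6, 4, 6, 6, 4, 5, 5, 5, 4])) (.node 99 (.leaf 11 4 [4, 5, 4, 6, 4, 5, 5, 4, 5, 7, 6, 4, 6, 6]) (.node 100 (.leaf 13 4 [5, 5, 4, 6, 6, 4, 5, 5, 4, 7, 8, 7, 4, 6, 6, 4]) (.leaf 10 12 [6, 8, 7, 8, 6, 4, 5, 5, 4, 6, 4, 5, 4, 5, 4, 6])))) (.node 103 (.node 102 (.leaf 10 1 [4, 5, 5, 4, 6, 4, 5, 4, 5, 4, 6, 6, 8, 7, 8, 6]) (.leaf 10 8 [4, 5, 4, 6, 6, 8, 7, 8, 6, 4, 5, 5, 4, 6, 4, 5])) (.node 104 (.leaf 13 8 [6, 4, 5, 5, 4, 7, 8, 7, 4, 6, 6, 4, 5, 5, 4, 6]) (.node 105 (.leaf 12 4 [4, 5, 5, 5, 4, 5, 4, 5, 4, 8, 7, 8, 7, 6, 4, 6, 6]) (.leaf 9 19 [6, 4, 5, 4, 6, 4, 5, 4, 6, 4, 5, 4, 6, 4, 5, 4, 6, 4, 5, 4]))))) (.node 111 (.node 108 (.node 107 (.leaf 12 16 [7, 6, 4, 6, 6, 4, 5, 5, 5, 4, 5, 4, 5,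 4, 8, 7, 8]) (.leaf 10 2 [5, 5, 4, 6, 4, 5, 4, 5, 4, 6, 6, 8, 7, 8, 6, 4])) (.node 109 (.leaf 13 1 [6, 6, 4, 5, 5, 4, 6, 6, 4, 5, 5, 4, 7, 8, 7, 4]) (.node 110 (.leaf 13 0 [4, 6, 6, 4, 5, 5, 4, 6, 6, 4, 5, 5, 4, 7, 8, 7]) (.leaf 5 18 [4, 5, 4, 5, 4, 5, 4, 5, 4, 5, 4, 5, 4, 5, 4, 5, 4, 5, 4, 5, 4, 5, 4, 5, 4, 5, 4, 5, 4, 5, 4, 5])))) (.node 113 (.node 112 (.leaf 13 9 [4, 5, 5, 4, 7, 8, 7, 4, 6, 6, 4, 5, 5, 4, 6, 6]) (.leaf 10 4 [4, 6, 4, 5, 4, 5, 4, 6, 6, 8, 7, 8, 6, 4, 5, 5])) (.node 114 (.leaf 11 9 [5, 5, 4, 5, 7, 6, 4, 6, 6, 4, 5, 4, 6, 4]) (.node 115 (.leaf 10 11 [6, 6, 8, 7, 8, 6, 4, 5, 5, 4, 6, 4, 5, 4, 5, 4]) (.leaf 10 9 [5, 4, 6, 6, 8, 7, 8, 6, 4, 5, 5, 4, 6, 4, 5, 4]))))))) (.node 135 (.node 125 (.node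 120 (.node 118 (.node 117 (.leaf 9 6 [4, 6, 4, 5, 4, 6, 4, 5, 4, 6, 4, 5, 4, 6, 4, 5, 4, 6, 4, 5]) (.leaf 7 3 [4, 5, 5, 4, 5, 5, 4, 5, 5, 4, 5, 5, 4, 5, 5])) (.node 119 (.leaf 10 3 [5, 4, 6, 4, 5, 4, 5, 4, 6, 6, 8, 7, 8, 6, 4, 5]) (.leaf 9 8 [4, 5, 4, 6, 4, 5, 4, 6, 4, 5, 4, 6, 4, 5, 4, 6, 4, 5, 4, 6]))) (.node 122 (.node 121 (.leaf 10 5 [6, 4, 5, 4, 5, 4, 6, 6, 8, 7, 8, 6, 4, 5, 5, 4]) (.leaf 12 3 [6, 4, 5, 5, 5, 4, 5, 4, 5, 4, 8, 7, 8, 7, 6, 4, 6])) (.node 123 (.leaf 10 7 [5, 4, 5, 4, 6, 6, 8, 7, 8, 6, 4, 5, 5, 4, 6, 4]) (.node 124 (.leaf 13 10 [5, 5, 4, 7, 8, 7, 4, 6, 6, 4, 5, 5, 4, 6, 6, 4]) (.leaf 5 17 [5, 4, 5, 4, 5, 4, 5, 4, 5, 4, 5, 4, 5, 4, 5, 4, 5, 4, 5, 4, 5, 4, 5, 4, 5, 4, 5, 4, 5, 4, 5, 4])))))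 (.node 130 (.node 127 (.node 126 (.leaf 5 16 [4, 5, 4, 5, 4, 5, 4, 5, 4, 5, 4, 5, 4, 5, 4, 5, 4, 5, 4, 5, 4, 5, 4, 5, 4, 5, 4, 5, 4, 5, 4, 5]) (.leaf 4 4 [6, 6, 6, 6, 6, 6, 6, 6])) (.node 128 (.leaf 11 11 [4, 5, 7, 6, 4, 6, 6, 4, 5, 4, 6, 4, 5, 5]) (.node 129 (.leaf 14 1 [6, 4, 6, 4, 5, 4, 6, 6, 4, 5, 5, 5, 8, 4]) (.leaf 8 6 [4, 6, 6, 4, 6, 6, 4, 6, 6, 4, 6, 6, 4, 6, 6])))) (.node 132 (.node 131 (.leaf 12 10 [4, 5, 4, 8, 7, 8, 7, 6, 4, 6, 6, 4, 5, 5, 5, 4, 5]) (.leaf 7 0 [4, 5, 5, 4, 5, 5, 4, 5, 5, 4, 5, 5, 4, 5, 5])) (.node 133 (.leaf 8 8 [6, 4, 6, 6, 4, 6, 6, 4, 6, 6, 4, 6, 6, 4, 6]) (.node 134 (.leaf 8 2 [6, 4, 6, 6, 4, 6, 6, 4, 6, 6, 4, 6, 6, 4, 6]) (.leaf 11 0 [6, 4, 6, 6, 4, 5, 4, 6, 4, 5, 5, 4, 5, 7]))))))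 (.node 145 (.node 140 (.node 137 (.node 136 (.leaf 9 13 [5, 4, 6, 4, 5, 4, 6, 4, 5, 4, 6, 4, 5, 4, 6, 4, 5, 4, 6, 4]) (.leaf 9 2 [4, 6, 4, 5, 4, 6, 4, 5, 4, 6, 4, 5, 4, 6, 4, 5, 4, 6, 4, 5])) (.node 138 (.leaf 12 0 [6, 4, 6, 6, 4, 5, 5, 5, 4, 5, 4, 5, 4, 8, 7, 8, 7]) (.node 139 (.leaf 14 0 [4, 6, 4, 6, 4, 5, 4, 6, 6, 4, 5, 5, 5, 8]) (.leaf 13 5 [5, 4, 6, 6, 4, 5, 5, 4, 7, 8, 7, 4, 6, 6, 4, 5])))) (.node 142 (.node 141 (.leaf 5 7 [5, 4, 5, 4, 5, 4, 5, 4, 5, 4, 5, 4, 5, 4, 5, 4, 5, 4, 5, 4, 5, 4, 5, 4, 5, 4, 5, 4, 5, 4, 5, 4]) (.leaf 9 16 [4, 5, 4, 6, 4, 5, 4, 6, 4, 5, 4, 6, 4, 5, 4, 6, 4, 5, 4, 6])) (.node 143 (.leaf 6 16 [4, 6, 4, 6, 4, 6, 4, 6, 4, 6, 4, 6, 4, 6, 4, 6, 4, 6, 4, 6, 4, 6, 4, 6, 4, 6, 4, 6, 4,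 6, 4, 6]) (.node 144 (.leaf 5 14 [4, 5, 4, 5, 4, 5, 4, 5, 4, 5, 4, 5, 4, 5, 4, 5, 4, 5, 4, 5, 4, 5, 4, 5, 4, 5, 4, 5, 4, 5, 4, 5]) (.leaf 13 12 [4, 7, 8, 7, 4, 6, 6, 4, 5, 5, 4, 6, 6, 4, 5, 5]))))) (.node 150 (.node 147 (.node 146 (.leaf 13 11 [5, 4, 7, 8, 7, 4, 6, 6, 4, 5, 5, 4, 6, 6, 4, 5]) (.leaf 6 13 [6, 4, 6, 4, 6, 4, 6, 4, 6, 4, 6, 4, 6, 4, 6, 4, 6, 4, 6, 4, 6, 4, 6, 4, 6, 4, 6, 4, 6, 4, 6, 4])) (.node 148 (.leaf 7 13 [5, 5, 4, 5, 5, 4, 5, 5, 4, 5, 5, 4, 5, 5, 4]) (.node 149 (.leaf 2 1 [6, 6, 6, 4, 5, 5, 5, 4, 8, 4]) (.leaf 6 6 [4, 6, 4, 6, 4, 6, 4, 6, 4, 6, 4, 6, 4, 6, 4, 6, 4, 6, 4, 6, 4, 6, 4, 6, 4, 6, 4, 6, 4, 6, 4, 6])))) (.node 152 (.node 151 (.leaf 8 14 [6, 4, 6, 6, 4, 6, 6, 4, 6, 6, 4, 6, 6,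 4, 6]) (.leaf 9 15 [6, 4, 5, 4, 6, 4, 5, 4, 6, 4, 5, 4, 6, 4, 5, 4, 6, 4, 5, 4])) (.node 153 (.leaf 10 0 [6, 4, 5, 5, 4, 6, 4, 5, 4, 5, 4, 6, 6, 8, 7, 8]) (.node 154 (.leaf 2 7 [5, 4, 8, 4, 6, 6, 6, 4, 5, 5]) (.leaf 5 19 [5, 4, 5, 4, 5, 4, 5, 4, 5, 4, 5, 4, 5, 4, 5, 4, 5, 4, 5, 4, 5, 4, 5, 4, 5, 4, 5, 4, 5, 4, 5, 4])))))))))

theorem b0 : allR (guardB 16 (blk fc sc rt.get Cfsg.Agent.Lib.Helper3.Tit.INV isH)) 4 0 = true := by decide +kernel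
theorem c0 : allR (guardB 32 (cblk fc nc cc 4096 1024 79228162514264337593543950336 gens)) 5 0 = true := by decide +kernel

theorem chkAll : ∀ j < 16, blk fc sc rt.get Cfsg.Agent.Lib.Helper3.Tit.INV isH j = true :=
  guardB_spec (D := 4) b0 (by norm_num)

theorem clAll : ∀ jb < 32, cblk fc nc cc (256 * 16) 1024 79228162514264337593543950336 gens jb = true :=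
  guardB_spec (D := 5) c0 (by norm_num)

theorem hid_0 : BR_0.all (wordId (ntOf Cfsg.Agent.Lib.Helper3.Tit.ntl) 11) = true := by decide +kernel
theorem hid : BR.all (wordId (ntOf Cfsg.Agent.Lib.Helper3.Tit.ntl) 11) = true := by
  simp only [BR, List.all_append, hid_0, Bool.and_self]

theorem card_eq : Nat.card (lgrp (vL Cfsg.Agent.Lib.Helper3.Tit.ntl Cfsg.Agent.Lib.Helper3.Tit.deg) gens) = 1024 * Nat.card (lgrp (vL Cfsg.Agent.Lib.Helper3.Tit.ntl Cfsg.Agent.Lib.Helper3.Tit.deg) hl) :=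
  Cfsg.Agent.Lib.Helper3.Tit.setup.level gens hl dl BR (by decide +kernel) (by decide +kernel) hid (by decide +kernel)
    (by decide +kernel) rt (by decide +kernel) isH (fun l h => of_decide_eq_true h) fc sc nc cc 16 32 1024 79228162514264337593543950336
    (by norm_num) (by norm_num) (by decide +kernel) (by decide) chkAll clAll
    1 1 13 (by norm_num [Cfsg.Agent.Lib.Helper3.Tit.deg]) (by norm_num [Cfsg.Agent.Lib.Helper3.Tit.deg]) (by decide +kernel) (by decide +kernel)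

theorem ub {M : Type*} [Group M] (w : ℕ → M) (h0 : w 0 = 1) (hinv : ∀ l, w (invL Cfsg.Agent.Lib.Helper3.Tit.INV l) = (w l)⁻¹)
    (hBR : ∀ r ∈ BR, (r.map w).prod = 1)
    (hdlr : ∀ r ∈ dl.map (fun p => p.1 ++ [p.2]), (r.map w).prod = 1) (N : ℕ) (hN : Bd w hl N) :
    Bd w gens (1024 * N) :=
  level_bd w Cfsg.Agent.Lib.Helper3.Tit.INV h0 hinv gens hl dl BR (by decide +kernel) hdlr hBR (by decide +kernel) (by decide +kernel)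
    rt (by decide +kernel) isH (fun l h => of_decide_eq_true h) fc sc nc cc 16 32 1024 79228162514264337593543950336
    (by norm_num) (by norm_num) (by decide +kernel) (by decide) chkAll clAll N hN

end Cfsg.Agent.Lib.Helper3.Tit.L2
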